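import Mathlib

set_option autoImplicit false
open scoped BigOperators
open Finset

namespace Groth.Agent.Lib.Helper5.Newt

theorem sum_lin (a σ : ℝ) (j : ℕ) :
    ∑ k ∈ range j, (2 * a + σ * (2 * (k : ℝ) + 1)) = 2 * j * a + σ * (j : ℝ) ^ 2 := by
  induction j with
  | zero => simp
  | succ j ih =>
    rw [Finset.sum_range_succ, ih]
    push_cast
    ring

theorem hull : ∀ (n : ℕ) (p : ℕ → ℝ), ∃ (l : ℕ) (s : ℕ → ℕ) (h : ℕ → ℝ),
    s 0 = 0 ∧ s l = n ∧ (∀ k, k < l → s k < s (k + 1)) ∧
    h 0 = p 0 ∧ h n = p n ∧ (∀ k ≤ n, h k ≤ p k) ∧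
    (∀ k, k + 2 ≤ n → h (k + 1) - h k ≤ h (k + 2) - h (k + 1)) ∧
    (∀ σ : ℝ, 1 ≤ n → (∀ k ≤ n, p 0 + σ * k ≤ p k) → σ ≤ h 1 - h 0) ∧
    ∑ k ∈ range l, (p (s k) + p (s (k + 1))) * ((s (k + 1) : ℝ) - s k) =
      ∑ k ∈ range n, (h k + h (k + 1)) := by
  intro n
  induction n using Nat.strong_induction_on with
  | _ n ih =>
    intro p
    rcases Nat.eq_zero_or_pos n with rfl | hn
    · exact ⟨0, fun _ => 0, p, rfl, rfl, by simp, rfl, rfl, fun k _ => le_rfl,
        by intro k hk; omega, by intro σ h; omega, by simp⟩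
    · obtain ⟨j, hj, hmin⟩ := Finset.exists_min_image (Finset.Icc 1 n)
        (fun j => (p j - p 0) / (j : ℝ)) ⟨1, by simp; omega⟩
      rw [Finset.mem_Icc] at hj
      set σ := (p j - p 0) / (j : ℝ) with hσ
      have hjpos : (0 : ℝ) < j := by exact_mod_cast hj.1
      have hlinj : p 0 + σ * j = p j := by rw [hσ]; field_simp; ring
      have hlin : ∀ k ≤ n, p 0 + σ * k ≤ p k := by
        intro k hk
        rcases Nat.eq_zero_or_pos k with rfl | hk0
        · simp
        · have h1 := hmin k (Finset.mem_Icc.mpr ⟨hk0, hk⟩)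
          have hkpos : (0 : ℝ) < k := by exact_mod_cast hk0
          have : σ * k ≤ p k - p 0 := by
            calc σ * k ≤ (p k - p 0) / k * k := mul_le_mul_of_nonneg_right h1 hkpos.le
              _ = p k - p 0 := by field_simp
          linarith
      obtain ⟨l', s', h', hs0, hsl, hsmono, hh0, hhn, hhle, hhconv, hhσ, harea⟩ :=
        ih (n - j) (by omega) (fun k => p (j + k))
      simp only [add_zero] at hh0
      let s : ℕ → ℕ := fun k => if k = 0 then 0 else j + s' (k - 1)
      let h : ℕ → ℝ := fun k => if k < j then p 0 + σ * k else h' (k - j)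
      have hlo : ∀ k ≤ j, h k = p 0 + σ * k := by
        intro k hk
        rcases Nat.lt_or_ge k j with hk' | hk'
        · simp only [h, if_pos hk']
        · have : k = j := le_antisymm hk hk'
          subst this
          simp only [h, lt_irrefl, if_false, Nat.sub_self, hh0, hlinj]
      have hhi : ∀ m, h (j + m) = h' m := by
        intro m
        simp only [h, if_neg (by omega : ¬ j + m < j), Nat.add_sub_cancel_left]
      refine ⟨l' + 1, s, h, ?_, ?_, ?_, ?_, ?_, ?_, ?_, ?_, ?_⟩
      · simp [s]
      · simp only [s, if_neg (Nat.succ_ne_zero l'), Nat.add_sub_cancel, hsl]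
        omega
      · intro k hk
        rcases k with _ | k
        · simp only [s, if_true, zero_add, if_neg one_ne_zero, Nat.sub_self, hs0]
          omega
        · simp only [s, if_neg (Nat.succ_ne_zero _), Nat.add_sub_cancel]
          have := hsmono k (by omega)
          omega
      · rw [hlo 0 (by omega)]; simp
      · obtain ⟨m, hm⟩ : ∃ m, n = j + m := ⟨n - j, by omega⟩
        have hm' : n - j = m := by omega
        rw [hm, hhi, ← hm', hhn, hm', ← hm]
      · intro k hk
        rcases Nat.lt_or_ge k j with hk' | hk'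
        · rw [hlo k hk'.le]; exact hlin k hk
        · obtain ⟨m, rfl⟩ : ∃ m, k = j + m := ⟨k - j, by omega⟩
          rw [hhi]
          exact hhle m (by omega)
      · intro k hk
        rcases Nat.lt_or_ge (k + 1) j with hk' | hk'
        · rw [hlo k (by omega), hlo (k + 1) (by omega), hlo (k + 2) (by omega)]
          push_cast
          linarith
        · rcases Nat.lt_or_ge k j with hk'' | hk''
          · -- k + 1 = j
            have hkj : k + 1 = j := by omega
            have e1 : h (k + 2) = h' 1 := by
              have : k + 2 = j + 1 := by omega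
              rw [this, hhi]
            have e2 : h (k + 1) = h' 0 := by
              have : k + 1 = j + 0 := by omega
              rw [this, hhi]
            have hs : σ ≤ h' 1 - h' 0 := by
              apply hhσ σ (by omega)
              intro m hm
              have := hlin (j + m) (by omega)
              push_cast at this
              simp only [add_zero]
              linarith
            rw [e1, e2, hlo k (by omega), hh0, ← hlinj, ← hkj]
            rw [hh0, ← hlinj, ← hkj] at hs
            push_cast at hs ⊢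
            linarith
          · obtain ⟨m, rfl⟩ : ∃ m, k = j + m := ⟨k - j, by omega⟩
            have := hhconv m (by omega)
            rw [show j + m + 1 = j + (m + 1) by omega, show j + m + 2 = j + (m + 2) by omega,
              hhi, hhi, hhi]
            exact this
      · intro σ' _ hσ'
        have h1 := hσ' j hj.2
        rw [← hlinj] at h1
        have hle : σ' ≤ σ := by
          have : σ' * j ≤ σ * j := by linarith
          exact le_of_mul_le_mul_right this hjpos
        rw [hlo 0 (by omega), hlo 1 hj.1]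
        push_cast
        linarith
      · rw [Finset.sum_range_succ']
        have hF0 : (p (s 0) + p (s (0 + 1))) * ((s (0 + 1) : ℝ) - s 0) = (p 0 + p j) * j := by
          simp only [s, if_true, zero_add, if_neg one_ne_zero, Nat.sub_self, hs0, add_zero]
          push_cast
          ring
        have hF : ∀ k ∈ range l', (p (s (k + 1)) + p (s (k + 1 + 1))) *
            ((s (k + 1 + 1) : ℝ) - s (k + 1)) =
            (p (j + s' k) + p (j + s' (k + 1))) * ((s' (k + 1) : ℝ) - s' k) := by
          intro k _
          simp only [s, if_neg (Nat.succ_ne_zero _), Nat.add_sub_cancel]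
          push_cast
          ring
        rw [Finset.sum_congr rfl hF, hF0, harea]
        obtain ⟨m, hm⟩ : ∃ m, n = j + m := ⟨n - j, by omega⟩
        have hm' : n - j = m := by omega
        rw [hm', hm, Finset.sum_range_add]
        have hA : ∑ k ∈ range j, (h k + h (k + 1)) = (p 0 + p j) * j := by
          have : ∀ k ∈ range j, h k + h (k + 1) = 2 * p 0 + σ * (2 * (k : ℝ) + 1) := by
            intro k hk
            rw [Finset.mem_range] at hk
            rw [hlo k hk.le, hlo (k + 1) hk]
            push_cast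
            ring
          rw [Finset.sum_congr rfl this, sum_lin, ← hlinj]
          ring
        have hB : ∑ k ∈ range m, (h (j + k) + h (j + k + 1)) = ∑ k ∈ range m, (h' k + h' (k + 1)) := by
          refine Finset.sum_congr rfl fun k _ => ?_
          rw [show j + k + 1 = j + (k + 1) by omega, hhi, hhi]
        rw [hA, hB]
        ring

/-- discrete convexity gives monotone differences. -/
theorem diff_mono (n : ℕ) (h : ℕ → ℝ)
    (hc : ∀ k, k + 2 ≤ n → h (k + 1) - h k ≤ h (k + 2) - h (k + 1)) :
    ∀ i d, i + d + 1 ≤ n → h (i + 1) - h i ≤ h (i + d + 1) - h (i + d) := by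
  intro i d
  induction d with
  | zero => intro _; simp
  | succ d ih =>
    intro hd
    have h1 := ih (by omega)
    have h2 := hc (i + d) (by omega)
    rw [show i + (d + 1) + 1 = i + d + 2 by omega, show i + (d + 1) = i + d + 1 by omega]
    linarith

theorem symm_le (n : ℕ) (h : ℕ → ℝ)
    (hc : ∀ k, k + 2 ≤ n → h (k + 1) - h k ≤ h (k + 2) - h (k + 1)) :
    ∀ k ≤ n, h k + h (n - k) ≤ h 0 + h n := by
  intro k hk
  have h1 : ∑ i ∈ range k, (h (i + 1) - h i) = h k - h 0 := Finset.sum_range_sub h k
  have h2 : ∑ i ∈ range k, (h (n - k + i + 1) - h (n - k + i)) = h n - h (n - k) := by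
    have := Finset.sum_range_sub (fun i => h (n - k + i)) k
    simp only [add_zero] at this
    rw [show n - k + k = n by omega] at this
    rw [← this]
    rfl
  have h3 : ∑ i ∈ range k, (h (i + 1) - h i) ≤
      ∑ i ∈ range k, (h (n - k + i + 1) - h (n - k + i)) := by
    refine Finset.sum_le_sum fun i hi => ?_
    rw [Finset.mem_range] at hi
    have := diff_mono n h hc i (n - k) (by omega)
    rw [show i + (n - k) = n - k + i by omega] at this
    exact this
  linarith

theorem main (n : ℕ) (hn : 1 ≤ n) (p : ℕ → ℝ) (hpn : p n = 0) :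
    ∃ (l : ℕ) (s : ℕ → ℕ), s 0 = 0 ∧ s l = n ∧ (∀ k : ℕ, k < l → s k < s (k + 1)) ∧
      (∑ k ∈ Finset.range l, (p (s k) - p (s (k + 1))) * ((s k : ℝ) + (s (k + 1) : ℝ))) ≤
        2 * (n : ℝ) / ((n : ℝ) + 1) * ∑ i ∈ Finset.range (n + 1), p i := by
  obtain ⟨l, s, h, hs0, hsl, hsmono, hh0, hhn, hhle, hhconv, -, harea⟩ := hull n p
  refine ⟨l, s, hs0, hsl, hsmono, ?_⟩
  -- telescoping identity
  have htel : ∑ k ∈ range l, (p (s k) - p (s (k + 1))) * ((s k : ℝ) + (s (k + 1) : ℝ)) =
      ∑ k ∈ range l, (p (s k) + p (s (k + 1))) * ((s (k + 1) : ℝ) - s k) := by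
    have h1 : ∀ k ∈ range l, (p (s k) - p (s (k + 1))) * ((s k : ℝ) + (s (k + 1) : ℝ)) =
        (p (s k) + p (s (k + 1))) * ((s (k + 1) : ℝ) - s k) -
          (2 * (s (k + 1) : ℝ) * p (s (k + 1)) - 2 * (s k : ℝ) * p (s k)) := by
      intro k _; ring
    rw [Finset.sum_congr rfl h1, Finset.sum_sub_distrib,
      Finset.sum_range_sub (fun k => 2 * (s k : ℝ) * p (s k)) l, hs0, hsl, hpn]
    simp
  rw [htel, harea]
  -- area in terms of H
  set H := ∑ i ∈ range (n + 1), h i with hH
  have hA : ∑ k ∈ range n, (h k + h (k + 1)) = 2 * H - h 0 - h n := by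
    rw [Finset.sum_add_distrib]
    have e1 : ∑ k ∈ range n, h k = H - h n := by rw [hH, Finset.sum_range_succ]; ring
    have e2 : ∑ k ∈ range n, h (k + 1) = H - h 0 := by rw [hH, Finset.sum_range_succ']; ring
    rw [e1, e2]; ring
  have hsym : 2 * H ≤ ((n : ℝ) + 1) * (h 0 + h n) := by
    have e1 : ∑ i ∈ range (n + 1), h (n - i) = H := by
      rw [hH]
      have := Finset.sum_range_reflect h (n + 1)
      rw [← this]
      refine Finset.sum_congr rfl fun i hi => ?_
      rw [Finset.mem_range] at hi
      congr 1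
    have e2 : 2 * H = ∑ i ∈ range (n + 1), (h i + h (n - i)) := by
      rw [Finset.sum_add_distrib, e1]; ring
    rw [e2]
    calc ∑ i ∈ range (n + 1), (h i + h (n - i)) ≤ ∑ _i ∈ range (n + 1), (h 0 + h n) := by
          refine Finset.sum_le_sum fun i hi => ?_
          rw [Finset.mem_range] at hi
          exact symm_le n h hhconv i (by omega)
      _ = ((n : ℝ) + 1) * (h 0 + h n) := by
          rw [Finset.sum_const, Finset.card_range]; push_cast; ring
  have hHle : H ≤ ∑ i ∈ range (n + 1), p i := by
    refine Finset.sum_le_sum fun i hi => ?_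
    rw [Finset.mem_range] at hi
    exact hhle i (by omega)
  have hn1 : (0 : ℝ) < (n : ℝ) + 1 := by positivity
  rw [hA, hhn, hpn] at *
  have hh0' : 2 * H / ((n : ℝ) + 1) ≤ h 0 := by
    rw [div_le_iff₀ hn1]
    linarith
  have hc : 2 * (n : ℝ) / ((n : ℝ) + 1) * H ≤
      2 * (n : ℝ) / ((n : ℝ) + 1) * ∑ i ∈ range (n + 1), p i :=
    mul_le_mul_of_nonneg_left hHle (by positivity)
  have : 2 * H - h 0 - 0 ≤ 2 * (n : ℝ) / ((n : ℝ) + 1) * H := by
    have e : 2 * (n : ℝ) / ((n : ℝ) + 1) * H = 2 * H - 2 * H / ((n : ℝ) + 1) := by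
      field_simp
      ring
    rw [e]
    linarith
  linarith

end Groth.Agent.Lib.Helper5.Newt
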